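import Groth.Agent.Lib.OX.RgammaZ
import Groth.Agent.Lib.OX.RRComp
import Groth.Agent.Lib.OX.HomTri
import Groth.Agent.Lib.OX.TensorAssoc
import Groth.Agent.Lib.OX.Adjunction
import Groth.Agent.Lib.OX.QCohPull
import Groth.Agent.Lib.OX.PullbackTensor
import Groth.Agent.Lib.Dual22.TensorShift
import Groth.Agent.Lib.TorBC25.Splits
import Groth.Agent.Lib.OX.PerfectEnvelope
import Groth.Agent.S1118

/-! # Tensor products, supports and objects local to an open -/

set_option autoImplicit false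
set_option maxHeartbeats 1000000
set_option linter.style.haveILetI false
universe u

open CategoryTheory CategoryTheory.Limits AlgebraicGeometry HomologicalComplex CategoryTheory.Pretriangulated

attribute [local instance] HasDerivedCategory.standard

noncomputable section

namespace GrothLib.SuppTens22

open GrothLib.OX

variable {X Y U : Scheme.{u}}

theorem hasLTensorCx_inst (E : CochainComplex X.Modules ℤ) : DCoh.HasLTensorCx E := hasLTensorCx E

/-- Tensoring, on representatives. -/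
theorem nonempty_ltensor_fac (E : CochainComplex X.Modules ℤ) [DCoh.HasLTensorCx E] :
    ∃ P : CochainComplex X.Modules ℤ, DCoh.IsKFlat P ∧ Nonempty (DerivedCategory.Q.obj P ≅ DerivedCategory.Q.obj E) ∧
      Nonempty (DerivedCategory.Q ⋙ DCoh.LTensorCx E ≅ (DCoh.tensorCx (X := X)).obj P ⋙ DerivedCategory.Q) := by
  obtain ⟨P, q, hP, -, hq, -⟩ := exists_kflat_resolution E
  haveI := hasLTensorCx P
  let e : DerivedCategory.Q.obj P ≅ DerivedCategory.Q.obj E := asIso (DerivedCategory.Q.map q)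
  obtain ⟨c⟩ := nonempty_ltensorCx_congr_of_iso e.symm
  haveI : IsIso ((DCoh.tensorCxQ P).totalLeftDerivedCounit DerivedCategory.Q
      (HomologicalComplex.quasiIso X.Modules (ComplexShape.up ℤ))) :=
    haveI := isIso_counit_of_isKFlat P hP
    NatIso.isIso_of_isIso_app _
  exact ⟨P, hP, ⟨e⟩, ⟨Functor.isoWhiskerLeft DerivedCategory.Q c ≪≫
    asIso ((DCoh.tensorCxQ P).totalLeftDerivedCounit DerivedCategory.Q
      (HomologicalComplex.quasiIso X.Modules (ComplexShape.up ℤ))) ≪≫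
    Functor.isoWhiskerRight (tensorFlipIso P) DerivedCategory.Q⟩⟩

theorem isZero_ltensor (E : CochainComplex X.Modules ℤ) [DCoh.HasLTensorCx E] {A : DCoh.D X} (h : IsZero A) :
    IsZero ((DCoh.LTensorCx E).obj A) := by
  obtain ⟨P, -, -, ⟨γ⟩⟩ := nonempty_ltensor_fac E
  haveI : ((DCoh.tensorCx (X := X)).obj P).PreservesZeroMorphisms := inferInstance
  refine IsZero.of_iso ?_ ((DCoh.LTensorCx E).mapIso
    (h.iso (DerivedCategory.Q.map_isZero (isZero_zero (CochainComplex X.Modules ℤ)))) ≪≫ γ.app _)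
  exact DerivedCategory.Q.map_isZero (((DCoh.tensorCx (X := X)).obj P).map_isZero (isZero_zero _))

/-- **Tensoring a distinguished triangle.** -/
theorem exists_triangle_ltensor (E : CochainComplex X.Modules ℤ) [DCoh.HasLTensorCx E] {T : Triangle (DCoh.D X)}
    (hT : T ∈ distTriang _) :
    ∃ (q : (DCoh.LTensorCx E).obj T.obj₂ ⟶ (DCoh.LTensorCx E).obj T.obj₃)
      (d : (DCoh.LTensorCx E).obj T.obj₃ ⟶ ((DCoh.LTensorCx E).obj T.obj₁)⟦(1 : ℤ)⟧),
      Triangle.mk ((DCoh.LTensorCx E).map T.mor₁) q d ∈ distTriang (DCoh.D X) := by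
  obtain ⟨P, -, -, ⟨γ⟩⟩ := nonempty_ltensor_fac E
  let G := DCoh.LTensorCx E
  let eA := DerivedCategory.Q.objObjPreimageIso T.obj₁
  let eB := DerivedCategory.Q.objObjPreimageIso T.obj₂
  let B := DerivedCategory.Q.objPreimage T.obj₂
  obtain ⟨A, s, hs, g, hα⟩ := DerivedCategory.right_fac (eA.hom ≫ T.mor₁ ≫ eB.inv)
  haveI := hs
  let e₁ : DerivedCategory.Q.obj A ≅ T.obj₁ := asIso (DerivedCategory.Q.map s) ≪≫ eA
  have comm : DerivedCategory.Q.map g ≫ eB.hom = e₁.hom ≫ T.mor₁ := by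
    rw [← cancel_mono eB.inv, Category.assoc, Category.assoc, eB.hom_inv_id, Category.comp_id]
    show _ = (DerivedCategory.Q.map s ≫ eA.hom) ≫ _
    rw [Category.assoc, hα, IsIso.hom_inv_id_assoc]
  let M := CochainComplex.mappingCone (𝟙 A)
  have hM : M.Acyclic := (DerCat.quasiIso_iff_acyclic_mappingCone (𝟙 A)).1 inferInstance
  let j : A ⟶ B ⊞ M := biprod.lift g (CochainComplex.mappingCone.inr (𝟙 A))
  let σ : (ShortComplex.mk (biprod.inr : M ⟶ B ⊞ M) biprod.fst biprod.inr_fst).Splitting :=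
    { r := biprod.snd, s := biprod.inl, f_r := biprod.inr_snd, s_g := biprod.inl_fst
      id := (add_comm _ _).trans biprod.total }
  haveI hfst : QuasiIso (biprod.fst : B ⊞ M ⟶ B) := DerCat.quasiIso_g_of_acyclic σ.shortExact hM
  have hr : ∀ n, j.f n ≫ (biprod.snd : B ⊞ M ⟶ _).f n ≫
      (CochainComplex.mappingCone.snd (𝟙 A)).v n n (add_zero n) = 𝟙 (A.X n) := fun n => by
    rw [← Category.assoc, ← HomologicalComplex.comp_f, biprod.lift_snd, CochainComplex.mappingCone.inr_f_snd_v]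
  have : Mono j := HomologicalComplex.mono_of_mono_f j fun n => (SplitMono.mk _ (hr n)).mono
  let S : ShortComplex (CochainComplex X.Modules ℤ) := ShortComplex.mk j (cokernel.π j) (cokernel.condition j)
  have hS : S.ShortExact := { exact := ShortComplex.exact_of_g_is_cokernel _ (cokernelIsCokernel j) }
  have hsp : ∀ n, (S.map (HomologicalComplex.eval X.Modules (ComplexShape.up ℤ) n)).Splitting := fun n =>
    have := (hS.map_of_exact (HomologicalComplex.eval X.Modules (ComplexShape.up ℤ) n)).epi_g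
    ShortComplex.Splitting.ofExactOfRetraction _
      (hS.map_of_exact (HomologicalComplex.eval X.Modules (ComplexShape.up ℤ) n)).exact _ (hr n) this
  have hFS := tensorCx_shortExact_of_splitting hsp P
  let e₂ : DerivedCategory.Q.obj (B ⊞ M) ≅ T.obj₂ :=
    asIso (DerivedCategory.Q.map (biprod.fst : B ⊞ M ⟶ B)) ≪≫ eB
  have comm₂ : DerivedCategory.Q.map j ≫ e₂.hom = e₁.hom ≫ T.mor₁ := by
    rw [← comm]
    show DerivedCategory.Q.map j ≫ DerivedCategory.Q.map biprod.fst ≫ eB.hom = _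
    rw [← Category.assoc, ← Functor.map_comp, biprod.lift_fst]
  let eT := isoTriangleOfIso₁₂ _ _ (DerivedCategory.triangleOfSES_distinguished hS) hT e₁ e₂ comm₂
  let e₃ : DerivedCategory.Q.obj S.X₃ ≅ T.obj₃ := Triangle.π₃.mapIso eT
  let Φ := (DCoh.tensorCx (X := X)).obj P
  let f₁ : DerivedCategory.Q.obj (Φ.obj A) ≅ G.obj T.obj₁ := (γ.app A).symm ≪≫ G.mapIso e₁
  let f₂ : DerivedCategory.Q.obj (Φ.obj (B ⊞ M)) ≅ G.obj T.obj₂ := (γ.app _).symm ≪≫ G.mapIso e₂
  let f₃ : DerivedCategory.Q.obj (Φ.obj S.X₃) ≅ G.obj T.obj₃ := (γ.app _).symm ≪≫ G.mapIso e₃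
  let T₀ := DerivedCategory.triangleOfSES hFS
  let g₁ : T₀.obj₁ ≅ G.obj T.obj₁ := f₁
  let g₂ : T₀.obj₂ ≅ G.obj T.obj₂ := f₂
  let g₃ : T₀.obj₃ ≅ G.obj T.obj₃ := f₃
  let q := g₂.inv ≫ T₀.mor₂ ≫ g₃.hom
  let d := g₃.inv ≫ T₀.mor₃ ≫ g₁.hom⟦(1 : ℤ)⟧'
  refine ⟨q, d, isomorphic_distinguished _ (DerivedCategory.triangleOfSES_distinguished hFS) _
      (Triangle.isoMk T₀ (Triangle.mk (G.map T.mor₁) q d) g₁ g₂ g₃ ?_ ?_ ?_).symm⟩
  · show DerivedCategory.Q.map (Φ.map j) ≫ γ.inv.app _ ≫ G.map e₂.hom =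
      (γ.inv.app _ ≫ G.map e₁.hom) ≫ G.map T.mor₁
    rw [Category.assoc, ← G.map_comp, ← comm₂, G.map_comp]
    exact (Category.assoc _ _ _).symm.trans ((congrArg (· ≫ G.map e₂.hom) (γ.inv.naturality j)).trans
      (Category.assoc _ _ _))
  · exact (Iso.hom_inv_id_assoc g₂ _).symm
  · exact (Iso.hom_inv_id_assoc g₃ _).symm

/-- Derived pullback to an open is restriction. -/
theorem nonempty_lpull_openImmersion (j : U ⟶ X) [IsOpenImmersion j] [DCoh.HasLpull j] :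
    Nonempty (DCoh.Lpull j ≅ resD j) := by
  haveI : DCoh.HasRpush j := KInj.hasRightDerivedFunctor _
  obtain ⟨a⟩ := nonempty_lpullAdj j
  exact ⟨(a.ofNatIsoRight (rpushIsoRres j)).leftAdjointUniq (resDAdj j)⟩

/-- Tensoring the structure sheaf. -/
theorem nonempty_ltensor_unit (E : CochainComplex X.Modules ℤ) [DCoh.HasLTensorCx E] :
    Nonempty ((DCoh.LTensorCx E).obj (DCoh.inD X (Coh.structureModule X)) ≅ DerivedCategory.Q.obj E) := by
  obtain ⟨i⟩ := Dual22.nonempty_ltensorCx_shift_unit E (0 : ℤ)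
  exact ⟨(DCoh.LTensorCx E).mapIso ((shiftFunctorZero (DCoh.D X) ℤ).app _).symm ≪≫ i ≪≫
    (shiftFunctorZero (DCoh.D X) ℤ).app _⟩

/-- The projection formula for an open. -/
theorem exists_ltensor_RR_open (j : U ⟶ X) [IsOpenImmersion j] [QuasiCompact j] {G : DCoh.D U}
    (hG : DCoh.IsQCohD G) (E : CochainComplex X.Modules ℤ) [DCoh.HasLTensorCx E]
    (hE : DCoh.IsQCohD (DerivedCategory.Q.obj E)) :
    ∃ (M : CochainComplex U.Modules ℤ) (_ : DCoh.HasLTensorCx M),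
      Nonempty (DerivedCategory.Q.obj M ≅ (resD j).obj (DerivedCategory.Q.obj E)) ∧
      Nonempty ((DCoh.LTensorCx E).obj ((RR j).obj G) ≅ (RR j).obj ((DCoh.LTensorCx M).obj G)) := by
  haveI : DCoh.HasRpush j := KInj.hasRightDerivedFunctor _
  haveI : DCoh.HasLpull j := hasLpull j
  obtain ⟨l⟩ := nonempty_lpull_openImmersion j
  obtain ⟨M, -, ⟨eM⟩⟩ := exists_kflat_rep ((DCoh.Lpull j).obj (DerivedCategory.Q.obj E))
  haveI := hasLTensorCx M
  obtain ⟨p⟩ := Groth.Agent.S1118.result j G hG E hE M ⟨eM⟩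
  exact ⟨M, inferInstance, ⟨eM ≪≫ l.app _⟩,
    ⟨(DCoh.LTensorCx E).mapIso ((rpushIsoRres j).app G).symm ≪≫ p ≪≫ (rpushIsoRres j).app _⟩⟩

/-- **Being local to an open is stable under tensor products.** -/
theorem isIso_unit_ltensor (j : U ⟶ X) [IsOpenImmersion j] [QuasiCompact j] {C : DCoh.D X}
    (hC : DCoh.IsQCohD C) (hu : IsIso ((resDAdj j).unit.app C)) (E : CochainComplex X.Modules ℤ)
    [DCoh.HasLTensorCx E] (hE : DCoh.IsQCohD (DerivedCategory.Q.obj E)) :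
    IsIso ((resDAdj j).unit.app ((DCoh.LTensorCx E).obj C)) := by
  obtain ⟨M, _, -, ⟨p⟩⟩ := exists_ltensor_RR_open j (isQCohD_resD j hC) E hE
  haveI : CxOX.HasRgammaZ j := KInj.hasRightDerivedFunctor _
  exact (NatTrans.isIso_app_iff_of_iso (resDAdj j).unit
    ((DCoh.LTensorCx E).mapIso (@asIso _ _ _ _ _ hu) ≪≫ p)).2 (isIso_resDAdj_unit_RR j _)

/-- Local objects are tensor products with `Rj_* O`. -/
theorem nonempty_RR_iso_ltensor (j : U ⟶ X) [IsOpenImmersion j] [QuasiCompact j] {G : DCoh.D U}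
    (E : CochainComplex X.Modules ℤ) [DCoh.HasLTensorCx E] (hE : DCoh.IsQCohD (DerivedCategory.Q.obj E))
    (e : DerivedCategory.Q.obj E ≅ (RR j).obj G) :
    Nonempty ((DCoh.LTensorCx E).obj ((RR j).obj (DCoh.inD U (Coh.structureModule U))) ≅ (RR j).obj G) := by
  have hO : DCoh.IsQCohD (DCoh.inD U (Coh.structureModule U)) :=
    isQCohD_of_isPerfect (TorBC25.isPerfect_inD_structure U)
  obtain ⟨M, _, ⟨eM⟩, ⟨p⟩⟩ := exists_ltensor_RR_open j hO E hE
  obtain ⟨u⟩ := nonempty_ltensor_unit M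
  exact ⟨p ≪≫ (RR j).mapIso (u ≪≫ eM ≪≫ (resD j).mapIso e ≪≫ (asIso (resDAdj j).counit).app G)⟩

/-- Derived pullback commutes with derived tensor products. -/
theorem nonempty_lpull_ltensor (f : X ⟶ Y) [DCoh.HasLpull f] (P : CochainComplex Y.Modules ℤ)
    (hP : DCoh.IsKFlat P) [DCoh.HasLTensorCx P]
    [DCoh.HasLTensorCx (((Scheme.Modules.pullback f).mapHomologicalComplex (ComplexShape.up ℤ)).obj P)]
    (A : DCoh.D Y) :
    Nonempty ((DCoh.Lpull f).obj ((DCoh.LTensorCx P).obj A) ≅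
      (DCoh.LTensorCx (((Scheme.Modules.pullback f).mapHomologicalComplex (ComplexShape.up ℤ)).obj P)).obj
        ((DCoh.Lpull f).obj A)) := by
  obtain ⟨R, hR, ⟨e⟩⟩ := exists_kflat_rep A
  obtain ⟨v⟩ := ltensorCx_value P R hR
  obtain ⟨w⟩ := lpull_value f R hR
  obtain ⟨w'⟩ := lpull_value f _ (isKFlat_tensor hR hP)
  obtain ⟨v'⟩ := ltensorCx_value (((Scheme.Modules.pullback f).mapHomologicalComplex (ComplexShape.up ℤ)).obj P) _
    (isKFlat_pullback f hR)
  exact ⟨(DCoh.Lpull f).mapIso ((DCoh.LTensorCx P).mapIso e.symm ≪≫ v) ≪≫ w' ≪≫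
    DerivedCategory.Q.mapIso (pullTensorCxIso f R P) ≪≫ v'.symm ≪≫
    (DCoh.LTensorCx _).mapIso (w.symm ≪≫ (DCoh.Lpull f).mapIso e)⟩

theorem isQCohD_lpull (f : X ⟶ Y) [DCoh.HasLpull f] {A : DCoh.D Y} (hA : DCoh.IsQCohD A) :
    DCoh.IsQCohD ((DCoh.Lpull f).obj A) := by
  obtain ⟨R, hR, ⟨e⟩⟩ := exists_kflat_rep A
  obtain ⟨w⟩ := lpull_value f R hR
  have hq : ∀ i, Coh.IsQCoh (R.homology i) := fun i =>
    isQCoh_of_iso ((hdIso R i).symm ≪≫ (DerivedCategory.homologyFunctor _ i).mapIso e).symm (hA i)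
  exact fun i => isQCoh_of_iso ((DerivedCategory.homologyFunctor _ i).mapIso
    ((DCoh.Lpull f).mapIso e.symm ≪≫ w) ≪≫ hdIso _ i).symm (isQCoh_homology_pullCx f hR hq i)

end GrothLib.SuppTens22
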