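import Groth.Agent.Lib.SuppTens22.Basic
import Groth.Agent.Lib.TorBC25.Affine
import Groth.Agent.Lib.OX.ProjQCohSigma

/-! # Derived pullback of objects local to an open -/

set_option autoImplicit false
set_option maxHeartbeats 1000000
set_option linter.style.haveILetI false
universe u

open CategoryTheory CategoryTheory.Limits AlgebraicGeometry CategoryTheory.Pretriangulated

attribute [local instance] HasDerivedCategory.standard

noncomputable section

namespace GrothLib.SuppTens22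

open GrothLib.OX

variable {X Y : Scheme.{u}}

/-- Derived pullback on charts. -/
theorem nonempty_resD_lpull_resLE (f : X ⟶ Y) [DCoh.HasLpull f] (W : Y.Opens) (V : X.Opens) (h : V ≤ f ⁻¹ᵁ W)
    [DCoh.HasLpull (f.resLE W V h)] (K : DCoh.D Y) :
    Nonempty ((resD V.ι).obj ((DCoh.Lpull f).obj K) ≅ (DCoh.Lpull (f.resLE W V h)).obj ((resD W.ι).obj K)) := by
  haveI : ∀ {A B : Scheme.{u}} (a : A ⟶ B), DCoh.HasLpull a := fun a => hasLpull a
  obtain ⟨lV⟩ := nonempty_lpull_openImmersion V.ι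
  obtain ⟨lW⟩ := nonempty_lpull_openImmersion W.ι
  exact ⟨(lV.app _).symm ≪≫ (lpullCompIso V.ι f).app K ≪≫
    eqToIso (by simp only [Scheme.Hom.resLE_comp_ι]) ≪≫ (lpullCompIso (f.resLE W V h) W.ι).symm.app K ≪≫
    (DCoh.Lpull _).mapIso (lW.app K)⟩

/-- **The derived pullback of `Rj_* O` is local to the preimage.** -/
theorem isIso_unit_lpull_structure (f : X ⟶ Y) [DCoh.HasLpull f] (U : Y.Opens) [QuasiCompact U.ι] :
    IsIso ((resDAdj (f ⁻¹ᵁ U).ι).unit.app ((DCoh.Lpull f).obj ((RR U.ι).obj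
      (DCoh.inD (U : Scheme.{u}) (Coh.structureModule (U : Scheme.{u})))))) := by
  haveI : ∀ {A B : Scheme.{u}} (a : A ⟶ B), DCoh.HasLpull a := fun a => hasLpull a
  let j' := (f ⁻¹ᵁ U).ι
  let E := DCoh.inD (U : Scheme.{u}) (Coh.structureModule (U : Scheme.{u}))
  let D := (DCoh.Lpull f).obj ((RR U.ι).obj E)
  obtain ⟨C, c, d, hT⟩ := distinguished_cocone_triangle ((resDAdj j').unit.app D)
  have hC : IsZero ((resD j').obj C) :=
    (Triangle.isZero₃_iff_isIso₁ _ ((resD j').map_distinguished _ hT)).2 (isIso_resD_unit j' D)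
  suffices IsZero C from (Triangle.isZero₃_iff_isIso₁ _ hT).1 this
  refine isZero_of_support_empty fun q => Set.eq_empty_iff_forall_notMem.2 fun x hx => ?_
  obtain ⟨W, hW, hxW, -⟩ := exists_isAffineOpen_mem_and_subset (x := f x) (U := ⊤) trivial
  obtain ⟨V, hV, hxV, hVW⟩ := exists_isAffineOpen_mem_and_subset (x := x) (U := f ⁻¹ᵁ W) hxW
  refine (isZero_resD_iff_support V.ι C).1 ?_ q hx ⟨⟨x, hxV⟩, rfl⟩
  let jV := j' ∣_ V
  haveI : CxOX.HasRgammaZ jV := KInj.hasRightDerivedFunctor _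
  haveI : IsAffine (W : Scheme.{u}) := hW
  haveI : IsAffine (V : Scheme.{u}) := hV
  let g := f.resLE W V hVW
  haveI : IsAffineHom g := isAffineHom_of_isAffine g
  let p := U.ι ∣_ W
  haveI : QuasiCompact p := IsZariskiLocalAtTarget.restrict ‹QuasiCompact U.ι› W
  let sq := IsPullback.of_hasPullback p g
  haveI : DCoh.HasRpush g := KInj.hasRightDerivedFunctor _
  haveI : DCoh.HasRpush (pullback.fst p g) := KInj.hasRightDerivedFunctor _
  obtain ⟨a⟩ := nonempty_lpullAdj g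
  obtain ⟨a'⟩ := nonempty_lpullAdj (pullback.fst p g)
  let adjg := a.ofNatIsoRight (rpushIsoRres g)
  let adjg' := a'.ofNatIsoRight (rpushIsoRres (pullback.fst p g))
  let E' := (resD (U.ι ⁻¹ᵁ W).ι).obj E
  have hE' : DCoh.IsPerfect E' := isPerfect_resD (TorBC25.isPerfect_inD_structure _) _
  have hθ : IsIso ((TorBC25.thetaNat sq adjg adjg').app E') :=
    (NatTrans.isIso_app_iff_of_iso (TorBC25.thetaNat sq adjg adjg') ((shiftFunctorZero (DCoh.D _) ℤ).app E')).1
      (TorBC25.good_of_isPerfect sq adjg adjg' hE' 0)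
  obtain ⟨l⟩ := nonempty_resD_lpull_resLE f W V hVW ((RR U.ι).obj E)
  let eA : (resD V.ι).obj D ≅ (RR (pullback.snd p g)).obj ((DCoh.Lpull (pullback.fst p g)).obj E') :=
    l ≪≫ (DCoh.Lpull g).mapIso ((resDRRBaseChange U.ι W).app E) ≪≫ @asIso _ _ _ _ _ hθ
  have hr : Set.range (pullback.snd p g) ⊆ Set.range jV := by
    rintro _ ⟨z, rfl⟩
    have e1 : (f (V.ι (pullback.snd p g z))) = U.ι ((U.ι ⁻¹ᵁ W).ι (pullback.fst p g z)) := by
      have h := congrArg (fun t : _ ⟶ Y => t z) (show pullback.snd p g ≫ V.ι ≫ f =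
        pullback.fst p g ≫ (U.ι ⁻¹ᵁ W).ι ≫ U.ι by
          rw [← Scheme.Hom.resLE_comp_ι f hVW, ← morphismRestrict_ι, ← pullback.condition_assoc])
      simpa using h
    have hmem : V.ι (pullback.snd p g z) ∈ f ⁻¹ᵁ U := by
      show f (V.ι (pullback.snd p g z)) ∈ U
      rw [e1]
      exact Subtype.property _
    let w : (f ⁻¹ᵁ U : Scheme.{u}) := ⟨V.ι (pullback.snd p g z), hmem⟩
    have hw : w ∈ j' ⁻¹ᵁ V := Subtype.property (pullback.snd p g z)
    refine ⟨(⟨w, hw⟩ : (j' ⁻¹ᵁ V : _)), V.ι.isOpenEmbedding.injective ?_⟩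
    have h := congrArg (fun t : _ ⟶ X => t (⟨w, hw⟩ : (j' ⁻¹ᵁ V : _))) (morphismRestrict_ι j' V)
    exact (Scheme.Hom.comp_apply _ _ _).symm.trans (h.trans (Scheme.Hom.comp_apply _ _ _))
  have hA : IsIso ((resDAdj jV).unit.app ((resD V.ι).obj D)) :=
    (NatTrans.isIso_app_iff_of_iso (resDAdj jV).unit eA).2
      (isIso_unit_RR_of_factor jV (IsOpenImmersion.lift jV (pullback.snd p g) hr) (IsOpenImmersion.lift_fac _ _ _) _)
  have hB : IsIso ((resDAdj jV).unit.app ((resD V.ι).obj ((RR j').obj ((resD j').obj D)))) :=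
    (NatTrans.isIso_app_iff_of_iso (resDAdj jV).unit ((resDRRBaseChange j' V).app _)).2
      (isIso_resDAdj_unit_RR jV _)
  refine isZero_of_isIso_unit jV (isIso_unit_obj₃ jV ((resD V.ι).map_distinguished _ hT) hA hB) ?_
  refine (isZero_resD_comp jV V.ι).2 (isZero_resD_of_le _ j' ?_ hC)
  rintro _ ⟨z, rfl⟩
  exact ⟨(j' ⁻¹ᵁ V).ι z, congrArg (fun t : _ ⟶ X => t z) (morphismRestrict_ι j' V).symm⟩

/-- **Derived pullback preserves being local to an open.** -/
theorem isIso_unit_lpull (f : X ⟶ Y) [DCoh.HasLpull f] (U : Y.Opens) [QuasiCompact U.ι]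
    [QuasiCompact (f ⁻¹ᵁ U).ι] {G : DCoh.D (U : Scheme.{u})} (hG : DCoh.IsQCohD G) :
    IsIso ((resDAdj (f ⁻¹ᵁ U).ι).unit.app ((DCoh.Lpull f).obj ((RR U.ι).obj G))) := by
  obtain ⟨P, hP, ⟨e⟩⟩ := exists_kflat_rep ((RR U.ι).obj G)
  haveI := hasLTensorCx P
  let P' := ((Scheme.Modules.pullback f).mapHomologicalComplex (ComplexShape.up ℤ)).obj P
  haveI := hasLTensorCx P'
  have hC : DCoh.IsQCohD ((RR U.ι).obj G) := isQCohD_Rres U.ι _ hG
  have hPq : DCoh.IsQCohD (DerivedCategory.Q.obj P) := fun i =>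
    isQCoh_of_iso ((DerivedCategory.homologyFunctor _ i).mapIso e.symm) (hC i)
  obtain ⟨i⟩ := nonempty_RR_iso_ltensor U.ι P hPq e
  let E := DCoh.inD (U : Scheme.{u}) (Coh.structureModule (U : Scheme.{u}))
  obtain ⟨t⟩ := nonempty_lpull_ltensor f P hP ((RR U.ι).obj E)
  obtain ⟨w⟩ := lpull_value f P hP
  have hP'q : DCoh.IsQCohD (DerivedCategory.Q.obj P') := fun i =>
    isQCoh_of_iso ((DerivedCategory.homologyFunctor _ i).mapIso w) (isQCohD_lpull f hPq i)
  refine (NatTrans.isIso_app_iff_of_iso (resDAdj (f ⁻¹ᵁ U).ι).unit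
    ((DCoh.Lpull f).mapIso i.symm ≪≫ t)).2 ?_
  exact isIso_unit_ltensor (f ⁻¹ᵁ U).ι
    (isQCohD_lpull f (isQCohD_Rres U.ι _ (isQCohD_of_isPerfect (TorBC25.isPerfect_inD_structure _))))
    (isIso_unit_lpull_structure f U) P' hP'q

end GrothLib.SuppTens22
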